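import Mathlib.AlgebraicGeometry.Sites.Fpqc
import Mathlib.AlgebraicGeometry.Morphisms.FlatDescent
import Mathlib.AlgebraicGeometry.Limits

/-!
# Affine refinements of fpqc covering families
-/

set_option autoImplicit false

universe v u

open AlgebraicGeometry CategoryTheory CategoryTheory.Limits

namespace GrothLib.FpqcCov

/-- Above an affine open, a flat quasi-compact cover is refined by one affine faithfully flat
quasi-compact morphism which is a finite disjoint union of pieces of the cover. -/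
lemma exists_affine_refinement {Y S : Scheme.{u}} [IsAffine S] (𝒰 : PreZeroHypercover.{v} Y)
    [QuasiCompactCover 𝒰] (hflat : ∀ i, Flat (𝒰.f i)) (a : S ⟶ Y) :
    ∃ (n : ℕ) (idx : Fin n → 𝒰.I₀) (Z : Fin n → Scheme.{u})
      (b : ∀ i, Z i ⟶ pullback a (𝒰.f (idx i))),
      (∀ i, IsOpenImmersion (b i)) ∧ IsAffine (∐ Z) ∧
      Flat (Sigma.desc fun i ↦ b i ≫ pullback.fst a (𝒰.f (idx i))) ∧
      Surjective (Sigma.desc fun i ↦ b i ≫ pullback.fst a (𝒰.f (idx i))) ∧
      QuasiCompact (Sigma.desc fun i ↦ b i ≫ pullback.fst a (𝒰.f (idx i))) := by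
  obtain ⟨n, idx, V, hV, heq⟩ := QuasiCompactCover.exists_isAffineOpen_of_isCompact
    (𝒰.pullback₁ a) (U := ⊤) isCompact_univ
  refine ⟨n, idx, fun i ↦ Spec Γ(_, V i), fun i ↦ (hV i).fromSpec, fun i ↦ (hV i).isOpenImmersion_fromSpec,
    inferInstance, ?_, ⟨fun x ↦ ?_⟩, inferInstance⟩
  · refine IsZariskiLocalAtSource.sigmaDesc (P := @Flat) fun i ↦ ?_
    have := hflat (idx i)
    have := (hV i).isOpenImmersion_fromSpec
    exact MorphismProperty.comp_mem (W := @Flat) (hV i).fromSpec _ inferInstance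
      (MorphismProperty.pullback_fst (P := @Flat) a (𝒰.f (idx i)) (hflat _))
  · have hx : x ∈ ⋃ i, (𝒰.pullback₁ a).f (idx i) '' (V i : Set _) := by rw [heq]; trivial
    obtain ⟨i, p, hp, rfl⟩ := Set.mem_iUnion.1 hx
    have : p ∈ Set.range (hV i).fromSpec := by rw [(hV i).range_fromSpec]; exact hp
    obtain ⟨q, rfl⟩ := this
    refine ⟨Sigma.ι (fun i ↦ Spec Γ(_, V i)) i q, ?_⟩
    rw [← Scheme.Hom.comp_apply, Sigma.ι_desc]
    rfl

lemma quasiCompactCover_and_flat {Y : Scheme.{u}} {ι : Type v} {X : ι → Scheme.{u}}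
    (f : ∀ i, X i ⟶ Y) (hf : Presieve.ofArrows X f ∈ Scheme.fpqcPrecoverage Y) :
    QuasiCompactCover (PreZeroHypercover.mk ι X f) ∧ (∀ i, Flat (f i)) ∧
      ∀ y, ∃ i x, (f i) x = y := by
  obtain ⟨h1, h2⟩ := hf
  have h1' : QuasiCompactCover (PreZeroHypercover.mk ι X f) := by
    rwa [← Scheme.presieve₀_mem_qcPrecoverage_iff]
  rw [Scheme.ofArrows_mem_precoverage_iff] at h2
  exact ⟨h1', h2.2, h2.1⟩

lemma of_fpqc_affine (P : MorphismProperty Scheme.{u}) [IsZariskiLocalAtTarget P]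
    (hP : P.DescendsAlong (@Surjective ⊓ @Flat ⊓ @QuasiCompact : MorphismProperty Scheme.{u}))
    {X Y S : Scheme.{u}} [IsAffine S] (f : X ⟶ Y) (𝒰 : PreZeroHypercover.{v} Y)
    [QuasiCompactCover 𝒰] (hflat : ∀ i, Flat (𝒰.f i))
    (h : ∀ i, P (pullback.snd f (𝒰.f i))) (a : S ⟶ Y) [IsOpenImmersion a] : P (pullback.snd f a) := by
  obtain ⟨n, idx, Z, b, hb, -, h1, h2, h3⟩ := exists_affine_refinement 𝒰 hflat a
  set d := Sigma.desc fun i ↦ b i ≫ pullback.fst a (𝒰.f (idx i)) with hd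
  refine MorphismProperty.of_pullback_fst_of_descendsAlong (P := P)
    (Q := @Surjective ⊓ @Flat ⊓ @QuasiCompact) (f := d) ⟨⟨h2, h1⟩, h3⟩ ?_
  refine (IsZariskiLocalAtTarget.iff_of_openCover (P := P) (sigmaOpenCover Z)).2 fun (i : Fin n) ↦ ?_
  have := hb i
  obtain ⟨c, hc⟩ : ∃ c : Z i ⟶ 𝒰.X (idx i), c = b i ≫ pullback.snd a (𝒰.f (idx i)) := ⟨_, rfl⟩
  have hwc : Sigma.ι Z i ≫ d ≫ a = c ≫ 𝒰.f (idx i) := by
    simp only [hd, hc, Sigma.ι_desc_assoc, Category.assoc, pullback.condition]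
  -- the piece over `Z i` is the base change of `f` along `c ≫ 𝒰.f (idx i)`
  have big : IsPullback
      (pullback.fst (pullback.fst d (pullback.snd f a)) (Sigma.ι Z i) ≫
        pullback.snd d (pullback.snd f a) ≫ pullback.fst f a)
      (pullback.snd (pullback.fst d (pullback.snd f a)) (Sigma.ι Z i)) f
      (c ≫ 𝒰.f (idx i)) := by
    rw [← hwc]
    exact (IsPullback.of_hasPullback _ _).paste_horiz
      ((IsPullback.of_hasPullback d (pullback.snd f a)).flip.paste_horiz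
        (IsPullback.of_hasPullback f a))
  have small := big
  have hcimm : IsOpenImmersion c := by
    rw [hc]; exact inferInstanceAs (IsOpenImmersion (b i ≫ pullback.snd a (𝒰.f (idx i))))
  let l := pullback.lift (pullback.fst (pullback.fst d (pullback.snd f a)) (Sigma.ι Z i) ≫
        pullback.snd d (pullback.snd f a) ≫ pullback.fst f a)
      (pullback.snd (pullback.fst d (pullback.snd f a)) (Sigma.ι Z i) ≫ c)
      (by simpa only [Category.assoc] using big.w)
  have sq : IsPullback l (pullback.snd (pullback.fst d (pullback.snd f a)) (Sigma.ι Z i))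
      (pullback.snd f (𝒰.f (idx i))) c :=
    IsPullback.of_right (h₁₁ := l) (by simp only [l, pullback.lift_fst]; exact small) (pullback.lift_snd _ _ _)
      (IsPullback.of_hasPullback f (𝒰.f (idx i)))
  have r := IsZariskiLocalAtTarget.of_isPullback (P := P) sq (h (idx i))
  exact r

theorem of_fpqc (P : MorphismProperty Scheme.{u}) [IsZariskiLocalAtTarget P]
    (hP : P.DescendsAlong (@Surjective ⊓ @Flat ⊓ @QuasiCompact : MorphismProperty Scheme.{u}))
    {X Y : Scheme.{u}} (f : X ⟶ Y) (𝒰 : PreZeroHypercover.{v} Y) [QuasiCompactCover 𝒰]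
    (hflat : ∀ i, Flat (𝒰.f i)) (h : ∀ i, P (pullback.snd f (𝒰.f i))) : P f := by
  refine (IsZariskiLocalAtTarget.iff_of_openCover (P := P) Y.affineCover).2 fun j ↦ ?_
  exact of_fpqc_affine P hP f 𝒰 hflat h (Y.affineCover.f j)

/-- Gluing an open subset along an fpqc covering family. -/
theorem existsUnique_opens {ι : Type v} {T : Scheme.{u}} {Ti : ι → Scheme.{u}}
    (f : ∀ i, Ti i ⟶ T) (hf : Presieve.ofArrows Ti f ∈ Scheme.fpqcPrecoverage T)
    (W : ∀ i, (Ti i).Opens)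
    (hW : ∀ i j, (pullback.fst (f i) (f j)) ⁻¹ᵁ (W i) = (pullback.snd (f i) (f j)) ⁻¹ᵁ (W j)) :
    ∃! V : T.Opens, ∀ i, (f i) ⁻¹ᵁ V = W i := by
  obtain ⟨hqc, hflat, hsurj⟩ := quasiCompactCover_and_flat f hf
  let V : Set T := ⋃ i, f i '' (W i : Set (Ti i))
  have hpre : ∀ i x, f i x ∈ V ↔ x ∈ W i := by
    refine fun i x ↦ ⟨fun hx ↦ ?_, fun hx ↦ Set.mem_iUnion.2 ⟨i, x, hx, rfl⟩⟩
    obtain ⟨j, y, hy, hyx⟩ := Set.mem_iUnion.1 hx
    obtain ⟨z, hz1, hz2⟩ := Scheme.Pullback.exists_preimage_pullback x y hyx.symm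
    have : z ∈ (pullback.snd (f i) (f j)) ⁻¹ᵁ (W j) := by
      show pullback.snd (f i) (f j) z ∈ W j
      rw [hz2]; exact hy
    rw [← hW i j] at this
    have h' : pullback.fst (f i) (f j) z ∈ W i := this
    rwa [hz1] at h'
  have hVopen : IsOpen V := by
    rw [isOpen_iff_forall_mem_open]
    intro t ht
    obtain ⟨U, hU, htU, -⟩ := exists_isAffineOpen_mem_and_subset (x := t) (U := ⊤) trivial
    have : IsAffine U := hU
    obtain ⟨n, idx, Z, b, hb, -, h1, h2, h3⟩ :=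
      exists_affine_refinement (PreZeroHypercover.mk ι Ti f) hflat U.ι
    set d := Sigma.desc fun i ↦ b i ≫ pullback.fst U.ι (f (idx i)) with hd
    have hq : IsOpen (U.ι ⁻¹' V) := by
      rw [← (Flat.isQuotientMap_of_surjective d).isOpen_preimage]
      rw [isOpen_iff_forall_mem_open]
      intro z hz
      obtain ⟨i, w, rfl⟩ := (sigmaOpenCover Z).exists_eq z
      have he : Sigma.ι Z i ≫ d ≫ U.ι = (b i ≫ pullback.snd U.ι (f (idx i))) ≫ f (idx i) := by
        simp only [hd, Sigma.ι_desc_assoc, Category.assoc, pullback.condition]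
      refine ⟨Sigma.ι Z i '' ((b i ≫ pullback.snd U.ι (f (idx i))) ⁻¹' (W (idx i) : Set _)),
        ?_, ((sigmaOpenCover Z).f i).isOpenEmbedding.isOpenMap _
          ((W (idx i)).2.preimage (Scheme.Hom.continuous _)), ⟨w, ?_, rfl⟩⟩
      · rintro _ ⟨w', hw', rfl⟩
        show U.ι (d (Sigma.ι Z i w')) ∈ V
        rw [← Scheme.Hom.comp_apply, ← Scheme.Hom.comp_apply, he, Scheme.Hom.comp_apply, hpre]
        exact hw'
      · have hz' : U.ι (d (Sigma.ι Z i w)) ∈ V := hz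
        rw [← Scheme.Hom.comp_apply, ← Scheme.Hom.comp_apply, he, Scheme.Hom.comp_apply, hpre]
          at hz'
        exact hz'
    refine ⟨U.ι '' (U.ι ⁻¹' V), Set.image_preimage_subset _ _,
      U.ι.isOpenEmbedding.isOpenMap _ hq, ⟨t, htU⟩, ht, rfl⟩
  refine ⟨⟨V, hVopen⟩, fun i ↦ TopologicalSpace.Opens.ext (Set.ext (hpre i)), fun V' hV' ↦ ?_⟩
  refine TopologicalSpace.Opens.ext (Set.ext fun t ↦ ?_)
  obtain ⟨i, x, rfl⟩ := hsurj t
  exact (show f i x ∈ V' ↔ x ∈ W i by rw [← hV' i]; rfl).trans (hpre i x).symm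

end GrothLib.FpqcCov
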